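import Groth.Agent.Lib.CurveCoh17.TensorExact
import Groth.Agent.Lib.HomO15.Sections
import Groth.Agent.Lib.PicH1_21.Thickening
import Groth.Agent.Lib.KFlat.Pullback
import Groth.Agent.Lib.KFlat.LpullPC
import Groth.Agent.Lib.TensorMod.PullTensor
import Groth.Agent.Lib.TensorMod.QCohTensor
import Mathlib.Algebra.Homology.DerivedCategory.Ext.ExactSequences

/-!
# Lifting homomorphisms along square zero thickenings
-/

set_option autoImplicit false

universe u

open CategoryTheory CategoryTheory.Limits AlgebraicGeometry TopologicalSpace Opposite CategoryTheory.Abelian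

namespace Groth.Agent.ExtLift23

open Groth.Agent.M1

/-- A short exact sequence with vanishing `Ext¹` splits. -/
theorem exists_retraction {C : Type*} [Category C] [Abelian C] [HasExt.{u} C] {S : ShortComplex C}
    (hS : S.ShortExact) (h : Subsingleton (Ext.{u} S.X₃ S.X₁ 1)) :
    ∃ r : S.X₂ ⟶ S.X₁, S.f ≫ r = 𝟙 _ := by
  obtain ⟨x, hx⟩ := Ext.covariant_sequence_exact₃ S.X₃ hS (Ext.mk₀ (𝟙 S.X₃)) (n₁ := 1) rfl (Subsingleton.elim _ _)
  obtain ⟨s, rfl⟩ := (Ext.mk₀_bijective _ _).2 x
  rw [Ext.mk₀_comp_mk₀] at hx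
  have := hS.mono_f
  have σ := ShortComplex.Splitting.ofExactOfSection S hS.exact s ((Ext.mk₀_bijective _ _).1 hx) hS.mono_f
  exact ⟨σ.r, σ.f_r⟩

variable {X : Scheme.{u}} (I : X.IdealSheafData)

open Groth.Agent.M2 MonoidalCategory in
set_option backward.isDefEq.respectTransparency false in
theorem tensorLUnit_tsec {M : X.Modules} {U : X.Opens} (r : Γ(X, U)) (t : Γ(M, U)) :
    (tensorLUnit M).hom.app U (tsec (Coh.structureModule X) M r t) = r • t := by
  have key : unitS (pm (Coh.structureModule X) ⊗ pm M) ≫ (pmF X).map (tensorLUnit M).hom = (λ_ (pm M)).hom := by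
    have h2 : unitS (pm M) ≫ (pmF X).map (shfPmIso M).hom = 𝟙 _ := (adjS X).right_triangle_components M
    have h1 : (pmF X).map (tensorLUnit M).hom =
        (pmF X).map ((shf X).map (λ_ (pm M)).hom) ≫ (pmF X).map (shfPmIso M).hom := Functor.map_comp _ _ _
    rw [h1, ← Category.assoc, ← unitS_naturality]
    exact (Category.assoc _ _ _).trans ((congrArg _ h2).trans (Category.comp_id _))
  exact congrArg (fun φ => φ.app (op U) (tm (pm (Coh.structureModule X)) (pm M) r t)) key


theorem killed_tensor {G : X.Modules} (h : HomO15.Killed I.subschemeι G) (F : X.Modules) :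
    HomO15.Killed I.subschemeι (CohB1.tensorMod G F) := by
  intro U a ha s
  refine TopCat.Presheaf.section_ext (⟨(CohB1.tensorMod G F).presheaf, (CohB1.tensorMod G F).isSheaf⟩ :
    TopCat.Sheaf AddCommGrpCat X) U.1 _ _ fun x hx => ?_
  refine (M1.germ_smul (CohB1.tensorMod G F) hx a s).trans ?_
  rw [map_zero]
  apply (M2.stalkEquiv G F x).injective
  rw [map_smul, map_zero]
  generalize M2.stalkEquiv G F x _ = z
  induction z using TensorProduct.induction_on with
  | zero => exact smul_zero _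
  | add z w hz hw => rw [smul_add, hz, hw, add_zero]
  | tmul p q => rw [TensorProduct.smul_tmul', HomO15.germ_smul_stalk _ h U a ha x hx p, TensorProduct.zero_tmul]

theorem killed_idealMod (hI : I * I = ⊥) : HomO15.Killed I.subschemeι (ClSub.idealMod I) := by
  intro U a ha s
  refine M2.idealIncl_injective I U.1 ?_
  rw [M2.idealIncl_smul, PicH1_21.idealIncl_zero]
  have ha' : a ∈ I.ideal U := by rwa [Scheme.IdealSheafData.ker_subschemeι] at ha
  obtain ⟨b, rfl⟩ := (M2.range_idealIncl I U).ge ha'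
  exact PicH1_21.idealIncl_mul_idealIncl hI b s

/-- `I ⊗ F ⟶ F`. -/
noncomputable def mulMap (F : X.Modules) : CohB1.tensorMod (ClSub.idealMod I) F ⟶ F :=
  M2.tensorMap (ClSub.idealModι I) (𝟙 F) ≫ (M2.tensorLUnit F).hom

/-- `I ⊗ F ⟶ F` dies in a module killed by `I`. -/
theorem mulMap_comp_eq_zero (F : X.Modules) {G : X.Modules} (hG : HomO15.Killed I.subschemeι G) (φ : F ⟶ G) :
    mulMap I F ≫ φ = 0 := by
  ext U s
  refine TopCat.Presheaf.section_ext (⟨G.presheaf, G.isSheaf⟩ : TopCat.Sheaf AddCommGrpCat X) U _ _ fun x hx => ?_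
  change G.presheaf.germ U x hx ((mulMap I F ≫ φ).app U s) = G.presheaf.germ U x hx 0
  rw [map_zero]
  refine (M1.germ_naturality (mulMap I F ≫ φ) U x hx s).symm.trans ?_
  generalize (CohB1.tensorMod (ClSub.idealMod I) F).presheaf.germ U x hx s = z
  clear s hx U
  obtain ⟨z, rfl⟩ := (M2.stalkEquiv (ClSub.idealMod I) F x).symm.surjective z
  induction z using TensorProduct.induction_on with
  | zero => rw [map_zero]; exact map_zero _
  | add a b ha hb => rw [map_add]; erw [map_add, ha, hb, add_zero]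
  | tmul p q =>
    obtain ⟨U, hx, s, t, rfl, rfl⟩ := CurveCoh17.exists_germ_germ x p q
    obtain ⟨W, hW, hxW, hWU⟩ := exists_isAffineOpen_mem_and_subset (x := x) (U := U) hx
    have hWU' : W ≤ U := hWU
    rw [← M1.germ_mres (ClSub.idealMod I) hWU' hxW s, ← M1.germ_mres F hWU' hxW t,
      (LinearEquiv.symm_apply_eq _).2 (M2.stalkEquiv_tsec (ClSub.idealMod I) F x hxW _ _).symm]
    generalize mres (ClSub.idealMod I) hWU' s = s'
    generalize mres F hWU' t = t'
    have h0 : (mulMap I F ≫ φ).app W (M2.tsec (ClSub.idealMod I) F s' t') = 0 := by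
      show φ.app W ((M2.tensorLUnit F).hom.app W
        ((M2.tensorMap (ClSub.idealModι I) (𝟙 F)).app W (M2.tsec (ClSub.idealMod I) F s' t'))) = 0
      rw [M2.tensorMap_tsec]
      erw [tensorLUnit_tsec]
      erw [Scheme.Modules.Hom.app_smul]
      refine hG ⟨W, hW⟩ _ ?_ _
      rw [Scheme.IdealSheafData.ker_subschemeι]
      exact (M2.range_idealIncl I ⟨W, hW⟩).le ⟨s', rfl⟩
    refine (M1.germ_naturality (mulMap I F ≫ φ) W x hxW _).trans ?_
    rw [h0, map_zero]

variable {I}

/-- Homomorphisms lift along a square zero thickening when `Ext¹(E₀, I ⊗ F₀) = 0`. -/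
theorem exists_lift_hom (hI : I * I = ⊥) {E F : X.Modules} (hE : FlatMod.IsFinLocFree E)
    (hF : FlatMod.IsFinLocFree F) [HasExt.{u} I.subscheme.Modules]
    (h1 : Subsingleton (Ext.{u} ((Scheme.Modules.pullback I.subschemeι).obj E)
      (CohB1.tensorMod ((Scheme.Modules.pullback I.subschemeι).obj (ClSub.idealMod I))
        ((Scheme.Modules.pullback I.subschemeι).obj F)) 1))
    (u₀ : (Scheme.Modules.pullback I.subschemeι).obj E ⟶ (Scheme.Modules.pullback I.subschemeι).obj F) :
    ∃ v : E ⟶ F, (Scheme.Modules.pullback I.subschemeι).map v = u₀ := by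
  let i := I.subschemeι
  let L := Scheme.Modules.pullback i
  let adj := Scheme.Modules.pullbackPushforwardAdjunction i
  have hFq := M2.isQCoh_of_isFinLocFree hF
  let G := CohB1.tensorMod (ClSub.quotMod I) F
  let K := CohB1.tensorMod (ClSub.idealMod I) F
  haveI hGu : IsIso (adj.unit.app G) :=
    M1.isIso_unit_of_ker_smul _ _ (M2.isQCoh_tensor (M1.isQCoh_push _ (M1.isQCoh_structureModule _)) hFq)
      (killed_tensor I (HomO15.killed_push _ _) F)
  haveI hKu : IsIso (adj.unit.app K) :=
    M1.isIso_unit_of_ker_smul _ _ (M2.isQCoh_tensor (M2.isQCoh_idealMod I) hFq)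
      (killed_tensor I (killed_idealMod I hI) F)
  let q : F ⟶ G := (M2.tensorLUnit F).inv ≫ M2.tensorMap (ClSub.toSubscheme I) (𝟙 F)
  have hS₀ := CurveCoh17.shortExact_tensorR (M2.shortExact_idealMod I) F
    fun x => KFlat.Sch.isFlat_of_isFinLocFree hF x
  have hfq : mulMap I F ≫ q = 0 := by
    simp only [mulMap, q, Category.assoc, Iso.hom_inv_id_assoc]
    exact (ShortComplex.map (ShortComplex.mk (ClSub.idealModι I) (ClSub.toSubscheme I) (kernel.condition _)) (M2.tensorR F)).zero
  let eX : (ShortComplex.map (ShortComplex.mk (ClSub.idealModι I) (ClSub.toSubscheme I) (kernel.condition _))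
      (M2.tensorR F)) ≅ ShortComplex.mk (mulMap I F) q hfq :=
    ShortComplex.isoMk (Iso.refl _) (M2.tensorLUnit F) (Iso.refl _)
      (by dsimp [mulMap, M2.tensorR]; exact Category.id_comp _)
      ((Iso.hom_inv_id_assoc (M2.tensorLUnit F) _).trans (Category.comp_id _).symm)
  have hS : (ShortComplex.mk (mulMap I F) q hfq).ShortExact := ShortComplex.shortExact_of_iso eX hS₀
  haveI := hS.mono_f
  haveI := hS.epi_g
  have hLf : L.map (mulMap I F) = 0 := by
    apply (adj.homEquiv _ _).injective
    have e := adj.unit.naturality (mulMap I F)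
    simp only [Functor.id_map, Functor.comp_map] at e
    rw [Adjunction.homEquiv_unit, Adjunction.homEquiv_unit, ← e, Functor.map_zero, comp_zero]
    exact mulMap_comp_eq_zero I F (HomO15.killed_push _ _) _
  haveI : IsIso (L.map q) := by
    have := L.map_epi q
    have : Mono (L.map q) := (hS.exact.map_of_epi_of_preservesCokernel L hS.epi_g inferInstance).mono_g hLf
    exact isIso_of_mono_of_epi _
  let ψ : E ⟶ G := adj.homEquiv _ _ (u₀ ≫ L.map q) ≫ inv (adj.unit.app G)
  -- the pulled back extension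
  let ι : K ⟶ pullback q ψ := pullback.lift (mulMap I F) 0 (by rw [hfq, zero_comp])
  have hι : ι ≫ pullback.snd q ψ = 0 := pullback.lift_snd _ _ _
  let T := ShortComplex.mk ι (pullback.snd q ψ) hι
  haveI : Mono ι := mono_of_mono_fac (pullback.lift_fst _ _ _ : ι ≫ pullback.fst q ψ = mulMap I F)
  have hT : T.ShortExact := by
    refine { exact := ShortComplex.exact_of_f_is_kernel _ ?_, mono_f := ‹Mono ι›, epi_g := ?_ }
    · refine KernelFork.IsLimit.ofι' _ _ fun {A} k hk => ?_
      have hk' : (k ≫ pullback.fst q ψ) ≫ q = 0 := by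
        rw [Category.assoc, pullback.condition, ← Category.assoc, hk, zero_comp]
      refine ⟨hS.exact.lift _ hk', pullback.hom_ext ?_ ?_⟩
      · rw [Category.assoc]
        exact (congrArg (_ ≫ ·) (pullback.lift_fst _ _ _)).trans (hS.exact.lift_f _ hk')
      · rw [Category.assoc]
        exact (congrArg (_ ≫ ·) (pullback.lift_snd _ _ _)).trans (comp_zero.trans hk.symm)
    · exact Abelian.epi_pullback_of_epi_f q ψ
  -- its restriction to the closed subscheme splits
  haveI := KFlat.Sch.mono_pullback_map i T hT ((KFlat.Sch.isFlat_iff E).2 fun x => KFlat.Sch.isFlat_of_isFinLocFree hE x)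
  have hLT : (T.map L).ShortExact :=
    { exact := hT.exact.map_of_epi_of_preservesCokernel L hT.epi_g inferInstance
      mono_f := ‹_›
      epi_g := haveI := hT.epi_g; L.map_epi _ }
  have hExt : Subsingleton (Ext.{u} (T.map L).X₃ (T.map L).X₁ 1) :=
    ⟨fun x y => by
      have e := M2.pullTensorIso i (ClSub.idealMod I) F
      have key : ∀ z : Ext.{u} (L.obj E) (L.obj K) 1,
          (z.comp (Ext.mk₀ e.hom) (add_zero 1)).comp (Ext.mk₀ e.inv) (add_zero 1) = z := fun z => by
        rw [Ext.comp_assoc_of_second_deg_zero, Ext.mk₀_comp_mk₀, e.hom_inv_id, Ext.comp_mk₀_id]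
      exact (key x).symm.trans ((congrArg (fun z => Ext.comp z (Ext.mk₀ e.inv) (add_zero 1))
        (h1.elim _ _)).trans (key y))⟩
  obtain ⟨r, hr⟩ := exists_retraction hLT hExt
  let ρ : pullback q ψ ⟶ K := adj.homEquiv _ _ r ≫ @inv _ _ _ _ (adj.unit.app K) hKu
  have hρ : ι ≫ ρ = 𝟙 _ := by
    rw [← Category.assoc, ← adj.homEquiv_naturality_left, show L.map ι ≫ r = 𝟙 _ from hr,
      Adjunction.homEquiv_unit]
    erw [CategoryTheory.Functor.map_id, Category.comp_id, IsIso.hom_inv_id]
  let σ := ShortComplex.Splitting.ofExactOfRetraction T hT.exact ρ hρ hT.epi_g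
  refine ⟨σ.s ≫ pullback.fst q ψ, (cancel_mono (L.map q)).1 ?_⟩
  apply (adj.homEquiv _ _).injective
  rw [← Functor.map_comp, Category.assoc, pullback.condition, ← Category.assoc, show σ.s ≫ pullback.snd q ψ = 𝟙 _ from σ.s_g,
    Category.id_comp, Adjunction.homEquiv_unit]
  have e := adj.unit.naturality ψ
  simp only [Functor.id_map, Functor.comp_map] at e
  rw [← e]
  simp [ψ]

/-- A map restricting to zero factors through `I ⊗ F`. -/
theorem exists_factor (hI : I * I = ⊥) {E F : X.Modules} (hF : FlatMod.IsFinLocFree F)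
    (d : E ⟶ F) (hd : (Scheme.Modules.pullback I.subschemeι).map d = 0) :
    ∃ e : E ⟶ CohB1.tensorMod (ClSub.idealMod I) F, d = e ≫ mulMap I F := by
  have hFq := M2.isQCoh_of_isFinLocFree hF
  let adj := Scheme.Modules.pullbackPushforwardAdjunction I.subschemeι
  let S := ShortComplex.mk (ClSub.idealModι I) (ClSub.toSubscheme I) (kernel.condition _)
  have hS := CurveCoh17.shortExact_tensorR (S := S) (M2.shortExact_idealMod I) F
    fun x => KFlat.Sch.isFlat_of_isFinLocFree hF x
  let d' : E ⟶ (S.map (M2.tensorR F)).X₂ := d ≫ (M2.tensorLUnit F).inv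
  have hq : IsIso (adj.unit.app (S.map (M2.tensorR F)).X₃) :=
    M1.isIso_unit_of_ker_smul _ _ (M2.isQCoh_tensor (M1.isQCoh_push _ (M1.isQCoh_structureModule _)) hFq)
      (killed_tensor I (HomO15.killed_push _ _) F)
  have h1 : d' ≫ (S.map (M2.tensorR F)).g = 0 := by
    rw [← cancel_mono (adj.unit.app (S.map (M2.tensorR F)).X₃), zero_comp]
    have e := adj.unit.naturality (d' ≫ (S.map (M2.tensorR F)).g)
    simp only [Functor.id_map, Functor.comp_map] at e
    rw [e, Functor.map_comp, show (Scheme.Modules.pullback I.subschemeι).map d' = 0 by simp [d', hd], zero_comp,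
      Functor.map_zero, comp_zero]
  haveI := hS.mono_f
  refine ⟨hS.exact.lift d' h1, ?_⟩
  refine Eq.trans ?_ (Category.assoc _ _ _)
  refine Eq.trans ?_ (congrArg (· ≫ (M2.tensorLUnit F).hom) (hS.exact.lift_f d' h1)).symm
  show d = (d ≫ (M2.tensorLUnit F).inv) ≫ (M2.tensorLUnit F).hom
  rw [Category.assoc]
  exact ((congrArg (d ≫ ·) (M2.tensorLUnit F).inv_hom_id).trans (Category.comp_id d)).symm

/-- Endomorphisms restricting to the identity are invertible. -/
theorem isIso_of_map_eq_id (hI : I * I = ⊥) {E : X.Modules} (hE : FlatMod.IsFinLocFree E) (v : E ⟶ E)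
    (hv : (Scheme.Modules.pullback I.subschemeι).map v = 𝟙 _) : IsIso v := by
  obtain ⟨e, he⟩ := exists_factor hI hE (v - 𝟙 E) (by rw [Functor.map_sub, hv, CategoryTheory.Functor.map_id, sub_self])
  have h0 : (v - 𝟙 E) ≫ (v - 𝟙 E) = 0 := by
    rw [he, Category.assoc, ← Category.assoc (mulMap I E),
      mulMap_comp_eq_zero I E (killed_tensor I (killed_idealMod I hI) E) e, zero_comp, comp_zero]
  have h1 : v ≫ (𝟙 E - (v - 𝟙 E)) = 𝟙 E := by
    simp only [Preadditive.sub_comp, Preadditive.comp_sub, Category.id_comp, Category.comp_id] at h0 ⊢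
    calc v - (v ≫ v - v) = 𝟙 E - (v ≫ v - v - (v - 𝟙 E)) := by abel
      _ = 𝟙 E := by rw [h0, sub_zero]
  have h2 : (𝟙 E - (v - 𝟙 E)) ≫ v = 𝟙 E := by
    simp only [Preadditive.sub_comp, Preadditive.comp_sub, Category.id_comp, Category.comp_id] at h0 ⊢
    calc v - (v ≫ v - v) = 𝟙 E - (v ≫ v - v - (v - 𝟙 E)) := by abel
      _ = 𝟙 E := by rw [h0, sub_zero]
  exact ⟨⟨_, h1, h2⟩⟩

/-- Locally free lifts are unique when `Ext¹(E₀, I ⊗ E₀) = 0`. -/
theorem nonempty_iso (hI : I * I = ⊥) {E E' : X.Modules} (hE : FlatMod.IsFinLocFree E)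
    (hE' : FlatMod.IsFinLocFree E') [HasExt.{u} I.subscheme.Modules]
    (e : (Scheme.Modules.pullback I.subschemeι).obj E ≅ (Scheme.Modules.pullback I.subschemeι).obj E')
    (h1 : Subsingleton (Ext.{u} ((Scheme.Modules.pullback I.subschemeι).obj E)
      (CohB1.tensorMod ((Scheme.Modules.pullback I.subschemeι).obj (ClSub.idealMod I))
        ((Scheme.Modules.pullback I.subschemeι).obj E)) 1)) :
    Nonempty (E ≅ E') := by
  have hA : Subsingleton (Ext.{u} ((Scheme.Modules.pullback I.subschemeι).obj E)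
      (CohB1.tensorMod ((Scheme.Modules.pullback I.subschemeι).obj (ClSub.idealMod I))
        ((Scheme.Modules.pullback I.subschemeι).obj E')) 1) := ⟨fun x y => by
      let t := M2.tensorIso (Iso.refl ((Scheme.Modules.pullback I.subschemeι).obj (ClSub.idealMod I))) e
      have key : ∀ z : Ext.{u} ((Scheme.Modules.pullback I.subschemeι).obj E)
          (CohB1.tensorMod ((Scheme.Modules.pullback I.subschemeι).obj (ClSub.idealMod I))
            ((Scheme.Modules.pullback I.subschemeι).obj E')) 1,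
          (z.comp (Ext.mk₀ t.inv) (add_zero 1)).comp (Ext.mk₀ t.hom) (add_zero 1) = z := fun z => by
        rw [Ext.comp_assoc_of_second_deg_zero, Ext.mk₀_comp_mk₀, t.inv_hom_id, Ext.comp_mk₀_id]
      exact (key x).symm.trans ((congrArg (fun z => Ext.comp z (Ext.mk₀ t.hom) (add_zero 1))
        (h1.elim _ _)).trans (key y))⟩
  have hB : Subsingleton (Ext.{u} ((Scheme.Modules.pullback I.subschemeι).obj E')
      (CohB1.tensorMod ((Scheme.Modules.pullback I.subschemeι).obj (ClSub.idealMod I))
        ((Scheme.Modules.pullback I.subschemeι).obj E)) 1) := ⟨fun x y => by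
      have key : ∀ z : Ext.{u} ((Scheme.Modules.pullback I.subschemeι).obj E')
          (CohB1.tensorMod ((Scheme.Modules.pullback I.subschemeι).obj (ClSub.idealMod I))
            ((Scheme.Modules.pullback I.subschemeι).obj E)) 1,
          (Ext.mk₀ e.inv).comp ((Ext.mk₀ e.hom).comp z (zero_add 1)) (zero_add 1) = z := fun z => by
        rw [Ext.mk₀_comp_mk₀_assoc, e.inv_hom_id, Ext.mk₀_id_comp]
      exact (key x).symm.trans ((congrArg (fun z => (Ext.mk₀ e.inv).comp z (zero_add 1))
        (h1.elim _ _)).trans (key y))⟩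
  obtain ⟨v, hv⟩ := exists_lift_hom hI hE hE' hA e.hom
  obtain ⟨w, hw⟩ := exists_lift_hom hI hE' hE hB e.inv
  haveI := isIso_of_map_eq_id hI hE (v ≫ w) (by rw [Functor.map_comp, hv, hw, e.hom_inv_id])
  haveI := isIso_of_map_eq_id hI hE' (w ≫ v) (by rw [Functor.map_comp, hv, hw, e.inv_hom_id])
  haveI : Mono v := mono_of_mono v w
  haveI : Epi v := epi_of_epi w v
  haveI : IsIso v := isIso_of_mono_of_epi v
  exact ⟨asIso v⟩

end Groth.Agent.ExtLift23
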